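import Mathlib

/-!
# Blichfeldt: no element of an irreducible group has an eigenvalue with all others within 60 degrees

If the conjugates of `y` generate the group, the representation is irreducible, and all
eigenvalues of `y` are at distance less than `1` from one of them, then `y` is a scalar.
-/

set_option autoImplicit false
set_option linter.unusedSectionVars false
set_option linter.style.haveILetI false

namespace Cfsg.Agent.Lib.BlichfeldtSixty

open Finset
open scoped ComplexConjugate

universe u

variable {G : Type u} [Group G] [Fintype G] {n : ℕ} (ρ : Representation ℂ G (Fin n → ℂ))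

/-- The invariant Hermitian form. -/
noncomputable def form (u v : Fin n → ℂ) : ℂ := ∑ h : G, ∑ i, conj (ρ h u i) * ρ h v i

/-- The invariant squared length. -/
noncomputable def len (v : Fin n → ℂ) : ℝ := ∑ h : G, ∑ i, Complex.normSq (ρ h v i)

theorem form_self (v : Fin n → ℂ) : form ρ v v = (len ρ v : ℂ) := by
  rw [form, len, Complex.ofReal_sum]
  refine sum_congr rfl fun h _ => ?_
  rw [Complex.ofReal_sum]
  exact sum_congr rfl fun i _ => by rw [Complex.normSq_eq_conj_mul_self]

theorem form_conj (u v : Fin n → ℂ) : conj (form ρ u v) = form ρ v u := by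
  simp only [form, map_sum, map_mul, Complex.conj_conj, mul_comm]

theorem form_map (g : G) (u v : Fin n → ℂ) : form ρ (ρ g u) (ρ g v) = form ρ u v := by
  refine Fintype.sum_equiv (Equiv.mulRight g) _ _ fun h => ?_
  simp only [Equiv.coe_mulRight, map_mul, Module.End.mul_apply]

theorem len_map (g : G) (v : Fin n → ℂ) : len ρ (ρ g v) = len ρ v := by
  have h := form_map ρ g v v
  rw [form_self, form_self] at h
  exact_mod_cast h

theorem form_add_right (u v w : Fin n → ℂ) : form ρ u (v + w) = form ρ u v + form ρ u w := by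
  simp only [form, map_add, Pi.add_apply, mul_add, sum_add_distrib]

theorem form_sub_right (u v w : Fin n → ℂ) : form ρ u (v - w) = form ρ u v - form ρ u w := by
  simp only [form, map_sub, Pi.sub_apply, mul_sub, sum_sub_distrib]

theorem form_sub_left (u v w : Fin n → ℂ) : form ρ (u - v) w = form ρ u w - form ρ v w := by
  simp only [form, map_sub, Pi.sub_apply, sub_mul, sum_sub_distrib]

theorem form_smul_right (c : ℂ) (u v : Fin n → ℂ) : form ρ u (c • v) = c * form ρ u v := by
  simp only [form, map_smul, Pi.smul_apply, smul_eq_mul, mul_sum, mul_left_comm]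

theorem form_smul_left (c : ℂ) (u v : Fin n → ℂ) : form ρ (c • u) v = conj c * form ρ u v := by
  simp only [form, map_smul, Pi.smul_apply, smul_eq_mul, map_mul, mul_sum, mul_assoc]

theorem len_nonneg (v : Fin n → ℂ) : 0 ≤ len ρ v :=
  sum_nonneg fun _ _ => sum_nonneg fun _ _ => Complex.normSq_nonneg _

theorem eq_zero_of_len_eq_zero {v : Fin n → ℂ} (h : len ρ v = 0) : v = 0 := by
  rw [len, sum_eq_zero_iff_of_nonneg fun _ _ => sum_nonneg fun _ _ => Complex.normSq_nonneg _] at h
  have h1 := h 1 (mem_univ _)
  rw [sum_eq_zero_iff_of_nonneg fun _ _ => Complex.normSq_nonneg _] at h1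
  funext i
  have := h1 i (mem_univ _)
  simpa using this

theorem len_pos {v : Fin n → ℂ} (h : v ≠ 0) : 0 < len ρ v :=
  (len_nonneg ρ v).lt_of_ne fun h0 => h (eq_zero_of_len_eq_zero ρ h0.symm)

theorem len_smul (c : ℂ) (v : Fin n → ℂ) : len ρ (c • v) = Complex.normSq c * len ρ v := by
  simp only [len, map_smul, Pi.smul_apply, smul_eq_mul, Complex.normSq_mul, mul_sum]

/-- Eigenvectors for different eigenvalues of absolute value one are orthogonal. -/
theorem form_eq_zero_of_eigen {g : G} {a b : ℂ} (ha : a * conj a = 1) (hab : a ≠ b)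
    {u v : Fin n → ℂ} (hu : ρ g u = a • u) (hv : ρ g v = b • v) : form ρ u v = 0 := by
  have h := form_map ρ g u v
  rw [hu, hv, form_smul_left, form_smul_right, ← mul_assoc] at h
  have h1 : (conj a * b - 1) * form ρ u v = 0 := by rw [sub_mul, one_mul, h, sub_self]
  refine (mul_eq_zero.mp h1).resolve_left fun h2 => hab ?_
  rw [sub_eq_zero] at h2
  calc a = a * (conj a * b) := by rw [h2, mul_one]
    _ = b := by rw [← mul_assoc, ha, one_mul]

/-- The length of a combination of orthogonal vectors. -/
theorem len_sum {ι : Type*} [DecidableEq ι] (s : Finset ι) (f : ι → Fin n → ℂ)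
    (h : ∀ i ∈ s, ∀ j ∈ s, i ≠ j → form ρ (f i) (f j) = 0) :
    len ρ (∑ i ∈ s, f i) = ∑ i ∈ s, len ρ (f i) := by
  induction s using Finset.induction with
  | empty => simp [len]
  | insert a s ha ih =>
    have ih' := ih fun i hi j hj => h i (mem_insert_of_mem hi) j (mem_insert_of_mem hj)
    rw [sum_insert ha, sum_insert ha, ← ih']
    have h1 : form ρ (f a) (∑ i ∈ s, f i) = 0 := by
      have : ∀ t : Finset ι, t ⊆ s → form ρ (f a) (∑ i ∈ t, f i) = 0 := by
        intro t
        induction t using Finset.induction with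
        | empty => intro _; simp [form]
        | insert b t hb ih2 =>
          intro ht
          rw [sum_insert hb, form_add_right, ih2 fun z hz => ht (mem_insert_of_mem hz), add_zero]
          exact h a (mem_insert_self a s) b (mem_insert_of_mem (ht (mem_insert_self b t)))
            fun hab => ha (hab ▸ ht (mem_insert_self b t))
      exact this s Subset.rfl
    have h2 : form ρ (∑ i ∈ s, f i) (f a) = 0 := by rw [← form_conj, h1, map_zero]
    have h3 := form_self ρ (f a + ∑ i ∈ s, f i)
    have h4 : form ρ (f a + ∑ i ∈ s, f i) (f a + ∑ i ∈ s, f i) =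
        form ρ (f a) (f a) + form ρ (∑ i ∈ s, f i) (∑ i ∈ s, f i) := by
      rw [form_add_right, ← form_conj ρ (f a) (f a + ∑ i ∈ s, f i),
        ← form_conj ρ (∑ i ∈ s, f i) (f a + ∑ i ∈ s, f i), form_add_right, form_add_right, h1, h2,
        add_zero, zero_add, form_conj, form_conj]
    rw [h4, form_self, form_self] at h3
    exact_mod_cast h3.symm

/-- Blichfeldt's theorem. -/
theorem scalar_of_near [ρ.IsIrreducible] (y : G)
    (hgen : Subgroup.normalClosure ({y} : Set G) = ⊤) (μ : ℂ) (hμ : μ * conj μ = 1)
    (hμv : ∃ v : Fin n → ℂ, v ≠ 0 ∧ ρ y v = μ • v)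
    (hnear : ∀ w : Fin n → ℂ, w ≠ 0 → len ρ (ρ y w - μ • w) < len ρ w) :
    ∀ v, ρ y v = μ • v := by
  classical
  set W : Submodule ℂ (Fin n → ℂ) := LinearMap.ker (ρ y - μ • (1 : Module.End ℂ (Fin n → ℂ)))
    with hW
  have hmem : ∀ v, v ∈ W ↔ ρ y v = μ • v := fun v => by
    rw [hW, LinearMap.mem_ker, LinearMap.sub_apply, LinearMap.smul_apply, Module.End.one_apply,
      sub_eq_zero]
  let Stab : Subgroup G :=
    { carrier := {g | W.map (ρ g) = W}
      one_mem' := by
        show W.map (ρ 1) = W
        rw [map_one, Module.End.one_eq_id, Submodule.map_id]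
      mul_mem' := fun {a b} ha hb => by
        show W.map (ρ (a * b)) = W
        rw [map_mul, Module.End.mul_eq_comp, Submodule.map_comp, hb, ha]
      inv_mem' := fun {a} ha => by
        show W.map (ρ a⁻¹) = W
        conv_lhs => rw [← show W.map (ρ a) = W from ha]
        rw [← Submodule.map_comp, ← Module.End.mul_eq_comp, ← map_mul, inv_mul_cancel, map_one,
          Module.End.one_eq_id, Submodule.map_id] }
  suffices hall : ∀ h : G, h * y * h⁻¹ ∈ Stab by
    have hle : Subgroup.normalClosure ({y} : Set G) ≤ Stab := by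
      rw [Subgroup.normalClosure, Subgroup.closure_le]
      intro a ha
      obtain ⟨b, rfl, hb⟩ := Group.mem_conjugatesOfSet_iff.1 ha
      obtain ⟨c, rfl⟩ := isConj_iff.1 hb
      exact hall c
    rw [hgen] at hle
    let K : Subrepresentation ρ :=
      { toSubmodule := W
        apply_mem_toSubmodule := fun g v hv => by
          have h1 : W.map (ρ g) = W := hle (Subgroup.mem_top g)
          rw [← h1]
          exact Submodule.mem_map_of_mem hv }
    rcases eq_bot_or_eq_top K with hK | hK
    · obtain ⟨v, hv0, hv⟩ := hμv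
      have h1 := congrArg Subrepresentation.toSubmodule hK
      have h2 : v ∈ K.toSubmodule := (hmem v).mpr hv
      rw [h1] at h2
      exact absurd ((Submodule.mem_bot ℂ).mp h2) hv0
    · intro v
      have h1 := congrArg Subrepresentation.toSubmodule hK
      have h2 : v ∈ K.toSubmodule := by rw [h1]; exact Submodule.mem_top
      exact (hmem v).mp h2
  by_contra hcon
  push Not at hcon
  obtain ⟨h0, hh0⟩ := hcon
  let b := Module.finBasis ℂ W
  let Φ : G → ℝ := fun g => ∑ i, len ρ (ρ g (b i : Fin n → ℂ) - μ • (b i : Fin n → ℂ))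
  obtain ⟨g, hg, hmin⟩ := Finset.exists_min_image
    (univ.filter fun g : G => (∃ h : G, g = h * y * h⁻¹) ∧ g ∉ Stab) Φ
    ⟨h0 * y * h0⁻¹, mem_filter.mpr ⟨mem_univ _, ⟨h0, rfl⟩, hh0⟩⟩
  obtain ⟨⟨h, hgh⟩, hgS⟩ := (mem_filter.mp hg).2
  -- the next conjugate
  set g' := g * y * g⁻¹ with hg'
  have hpt : ∀ v ∈ W, len ρ (ρ g' v - μ • v) ≤ len ρ (ρ g v - μ • v) ∧
      (ρ g⁻¹ v ∉ W → len ρ (ρ g' v - μ • v) < len ρ (ρ g v - μ • v)) := by
    intro v hv
    have hv' := (hmem v).mp hv
    set w := ρ g⁻¹ v with hw
    have hgw : ρ g w = v := by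
      rw [hw, ← Module.End.mul_apply, ← map_mul, mul_inv_cancel, map_one, Module.End.one_apply]
    have h1 : len ρ (ρ g' v - μ • v) = len ρ (ρ y w - μ • w) := by
      rw [← len_map ρ g (ρ y w - μ • w), map_sub, map_smul, hgw, hg', map_mul, map_mul,
        Module.End.mul_apply, Module.End.mul_apply]
    set w' := w - conj μ • v with hw'
    have h2 : ρ y w' - μ • w' = ρ y w - μ • w := by
      rw [hw', map_sub, map_smul, hv', smul_sub, smul_comm μ (conj μ) v]
      abel
    have h3 : len ρ w' = len ρ (ρ g v - μ • v) := by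
      have e : ρ g w' = (-conj μ) • (ρ g v - μ • v) := by
        rw [hw', map_sub, map_smul, hgw, smul_sub, neg_smul, neg_smul, smul_smul, mul_comm (conj μ),
          hμ, one_smul]
        abel
      rw [← len_map ρ g w', e, len_smul, Complex.normSq_neg, Complex.normSq_conj]
      have h5 : Complex.normSq μ = 1 := by
        have := congrArg Complex.re hμ
        rw [Complex.mul_conj, Complex.ofReal_re, Complex.one_re] at this
        exact this
      rw [h5, one_mul]
    rw [h1, ← h2, ← h3]
    by_cases h0' : w' = 0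
    · refine ⟨by rw [h0']; simp [len], fun hne => absurd ?_ hne⟩
      rw [sub_eq_zero.mp h0']
      exact W.smul_mem _ hv
    · exact ⟨(hnear w' h0').le, fun _ => hnear w' h0'⟩
  have hdim : ∀ a : G, (∀ v ∈ W, ρ a v ∈ W) → a ∈ Stab := by
    intro a ha
    show W.map (ρ a) = W
    refine Submodule.eq_of_le_of_finrank_eq (Submodule.map_le_iff_le_comap.mpr ha) ?_
    refine (Submodule.equivMapOfInjective _ (fun u v huv => ?_) W).finrank_eq.symm
    have := congrArg (ρ a⁻¹) huv
    rwa [← Module.End.mul_apply, ← Module.End.mul_apply, ← map_mul, inv_mul_cancel, map_one] at this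
  have hg'S : g' ∈ Stab := by
    by_contra hS
    have hle := hmin g' (mem_filter.mpr ⟨mem_univ _, ⟨g, rfl⟩, hS⟩)
    refine absurd hle (not_le.mpr (sum_lt_sum (fun i _ => (hpt _ (b i).2).1) ?_))
    by_contra hall
    push Not at hall
    apply hgS
    apply Stab.inv_mem_iff.mp
    refine hdim _ fun v hv => ?_
    have h1 : ∀ i, ρ g⁻¹ (b i : Fin n → ℂ) ∈ W := fun i => by
      by_contra h2
      exact absurd (hall i (mem_univ _)) (not_le.mpr ((hpt _ (b i).2).2 h2))
    have h3 : (⟨v, hv⟩ : W) = ∑ i, b.repr ⟨v, hv⟩ i • b i := (b.sum_repr _).symm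
    have h4 := congrArg (fun t : W => (t : Fin n → ℂ)) h3
    simp only [Submodule.coe_sum, Submodule.coe_smul] at h4
    rw [h4, map_sum]
    exact sum_mem fun i _ => by rw [map_smul]; exact W.smul_mem _ (h1 i)
  -- `y` is scalar on the preimage of `W`
  have key : ∀ u : Fin n → ℂ, ρ g u ∈ W → ρ y u = μ • u := by
    intro u hu
    set u' := ρ y u - μ • u with hu'
    rw [← sub_eq_zero, ← hu']
    by_contra hne
    have h1 : ρ g u' ∈ W := by
      rw [hu', map_sub, map_smul]
      refine W.sub_mem ?_ (W.smul_mem _ hu)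
      have h2 : ρ g (ρ y u) = ρ g' (ρ g u) := by
        rw [← Module.End.mul_apply, ← map_mul, ← Module.End.mul_apply (ρ g'), ← map_mul, hg',
          inv_mul_cancel_right]
      rw [h2]
      have h3 : W.map (ρ g') = W := hg'S
      exact h3.le (Submodule.mem_map_of_mem hu)
    have h3 : form ρ (ρ g u') u' = 0 := by
      set w := ρ g u'
      have hw := (hmem w).mp h1
      have h4 := form_map ρ y w u
      rw [hw, form_smul_left] at h4
      rw [hu', form_sub_right, form_smul_right, ← h4, ← mul_assoc, hμ, one_mul, sub_self]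
    set z := ρ h⁻¹ u'
    have hz : ρ h z = u' := by
      rw [← Module.End.mul_apply, ← map_mul, mul_inv_cancel, map_one, Module.End.one_apply]
    have h4 : form ρ (ρ y z) z = 0 := by
      rw [← form_map ρ h, hz, ← Module.End.mul_apply, ← map_mul]
      rw [show ρ (h * y) z = ρ g u' by
        rw [← hz, ← Module.End.mul_apply (ρ g), ← map_mul, hgh, inv_mul_cancel_right]]
      exact h3
    have hz0 : z ≠ 0 := fun h0 => hne (by rw [← hz, h0, map_zero])
    have h5 : len ρ (ρ y z - μ • z) = 2 * len ρ z := by
      have e := form_self ρ (ρ y z - μ • z)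
      rw [form_sub_left, form_sub_right, form_sub_right, form_smul_right, form_smul_left,
        form_smul_left, form_smul_right, h4, form_map, form_self,
        show form ρ z (ρ y z) = 0 by rw [← form_conj, h4, map_zero], mul_zero, mul_zero,
        sub_zero, zero_sub, sub_neg_eq_add, ← mul_assoc, mul_comm (conj μ), hμ, one_mul] at e
      have e' : ((len ρ z + len ρ z : ℝ) : ℂ) = (len ρ (ρ y z - μ • z) : ℂ) := by
        rw [← e]; push_cast; ring
      rw [two_mul]
      exact (Complex.ofReal_inj.mp e').symm
    have h6 := hnear z hz0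
    have h7 := len_pos ρ hz0
    linarith
  apply hgS
  apply Stab.inv_mem_iff.mp
  refine hdim _ fun v hv => (hmem _).mpr (key _ ?_)
  rw [← Module.End.mul_apply, ← map_mul, mul_inv_cancel, map_one]
  exact hv

end Cfsg.Agent.Lib.BlichfeldtSixty
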